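import Cfsg.Agent.Zipper.Dichotomy

/-!
Iterated commutators with an element generate, when the commutators do.
-/

set_option autoImplicit false

namespace Cfsg.Agent.Zipper

open Subgroup
open scoped Pointwise

universe u

/-- The commutator with `a`. -/
def comm {X : Type u} [Group X] (a : X) (c : X) : X := c * (a * c * a⁻¹)⁻¹

variable {X : Type u} [Group X]

theorem comm_conj (a c : X) : comm a (a * c * a⁻¹) = a * comm a c * a⁻¹ := by
  simp [comm, mul_assoc]

theorem comm_mem {a : X} {N : Subgroup X} (ha : a ∈ normalizer (N : Set X)) {c : X} (hc : c ∈ N) :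
    comm a c ∈ N :=
  mul_mem hc (inv_mem ((mem_normalizer_iff.mp ha c).mp hc))

theorem comm_iterate_mem {a : X} {N : Subgroup X} (ha : a ∈ normalizer (N : Set X)) (j : ℕ) {c : X}
    (hc : c ∈ N) : (comm a)^[j] c ∈ N := by
  induction j generalizing c with
  | zero => exact hc
  | succ j ih => rw [Function.iterate_succ_apply]; exact ih (comm_mem ha hc)

theorem comm_iterate_conj (a : X) (j : ℕ) (c : X) :
    (comm a)^[j] (a * c * a⁻¹) = a * (comm a)^[j] c * a⁻¹ := by
  induction j generalizing c with
  | zero => rfl
  | succ j ih => rw [Function.iterate_succ_apply, Function.iterate_succ_apply, comm_conj, ih]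

theorem mem_normalizer_closure_iterate [Finite X] {a : X} {N : Subgroup X}
    (ha : a ∈ normalizer (N : Set X)) (j : ℕ) :
    a ∈ normalizer ((closure ((comm a)^[j] '' (N : Set X)) : Subgroup X) : Set X) := by
  refine Layer.mem_normalizer_of_conj_mem fun x hx => ?_
  induction hx using closure_induction with
  | mem x hx =>
    obtain ⟨c, hc, rfl⟩ := hx
    exact subset_closure ⟨a * c * a⁻¹, (mem_normalizer_iff.mp ha c).mp hc, comm_iterate_conj a j c⟩
  | one => simp
  | mul x y _ _ hx hy => have := mul_mem hx hy; simpa [mul_assoc] using this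
  | inv x _ hx => have := inv_mem hx; simpa [mul_assoc] using this

theorem closure_iterate_le {a : X} {N : Subgroup X} (ha : a ∈ normalizer (N : Set X)) (j : ℕ) :
    closure ((comm a)^[j] '' (N : Set X)) ≤ N :=
  (closure_le N).mpr (by rintro _ ⟨c, hc, rfl⟩; exact comm_iterate_mem ha j hc)

/-- In a subgroup generated by its own conjugates of `⟨a⟩`, the part inside `N` is generated by
commutators with `a`. -/
theorem closure_comm_eq [Finite X] {a : X} {N H : Subgroup X} [N.Normal]
    (hsplit : N ⊔ zpowers a = ⊤) (hdisj : N ⊓ zpowers a = ⊥) (hH : Gen (zpowers a) H) :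
    closure (comm a '' ((N ⊓ H : Subgroup X) : Set X)) = N ⊓ H := by
  have haH : a ∈ H := hH.1 (mem_zpowers a)
  have haN : a ∈ normalizer ((N ⊓ H : Subgroup X) : Set X) :=
    Coprime.le_normalizer_inf_of_le (A := zpowers a) (le_normalizer_of_normal) hH.1 (mem_zpowers a)
  set W := closure (comm a '' ((N ⊓ H : Subgroup X) : Set X)) with hW
  have hWle : W ≤ N ⊓ H := closure_iterate_le haN 1
  have haW : zpowers a ≤ normalizer (W : Set X) :=
    zpowers_le.mpr (mem_normalizer_closure_iterate haN 1)
  have hNW : N ⊓ H ≤ normalizer (W : Set X) := by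
    intro m hm
    refine Layer.mem_normalizer_of_conj_mem fun x hx => ?_
    induction hx using closure_induction with
    | mem x hx =>
      obtain ⟨n, hn, rfl⟩ := hx
      have h := mul_mem (subset_closure ⟨m * n, mul_mem hm hn, rfl⟩ : comm a (m * n) ∈ W)
        (inv_mem (subset_closure ⟨m, hm, rfl⟩ : comm a m ∈ W))
      have h3 : comm a (m * n) * (comm a m)⁻¹ = m * comm a n * m⁻¹ := by simp [comm, mul_assoc]
      rwa [h3] at h
    | one => simp
    | mul x y _ _ hx hy => have := mul_mem hx hy; simpa [mul_assoc] using this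
    | inv x _ hx => have := inv_mem hx; simpa [mul_assoc] using this
  have hHeq : H = (N ⊓ H) ⊔ zpowers a := by
    rw [← Coprime.dedekind le_normalizer_of_normal hH.1, hsplit, top_inf_eq]
  have hK : W ⊔ zpowers a = H := by
    refine hH.2 _ le_sup_right (sup_le (hWle.trans inf_le_right) hH.1) ?_
    conv_lhs => rw [hHeq]
    refine sup_le ?_ (le_sup_right.trans le_normalizer)
    intro m hm
    refine Layer.mem_normalizer_of_conj_mem fun x hx => ?_
    obtain ⟨w, hw, b, hb, rfl⟩ := (Coprime.mem_sup_of_le_normalizer haW).mp hx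
    have hmb : m * b * m⁻¹ ∈ W ⊔ zpowers a := by
      have hma : m * a * m⁻¹ ∈ W ⊔ zpowers a := by
        have : m * a * m⁻¹ = comm a m * a := by simp [comm, mul_assoc]
        rw [this]
        exact mul_mem_sup (subset_closure ⟨m, hm, rfl⟩) (mem_zpowers a)
      obtain ⟨i, rfl⟩ := mem_zpowers_iff.mp hb
      rw [← conj_zpow]
      exact zpow_mem hma i
    have hmw : m * w * m⁻¹ ∈ W ⊔ zpowers a :=
      mem_sup_left ((mem_normalizer_iff.mp (hNW hm) w).mp hw)
    have := mul_mem hmw hmb
    simpa [mul_assoc] using this
  refine le_antisymm hWle ?_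
  have h2 : N ⊓ H ≤ (W ⊔ zpowers a) ⊓ N := le_inf (inf_le_right.trans hK.ge) inf_le_left
  intro x hx
  obtain ⟨w, hw, b, hb, rfl⟩ := (Coprime.mem_sup_of_le_normalizer haW).mp (h2 hx).1
  have hbN : b ∈ N ⊓ zpowers a :=
    ⟨(N.mul_mem_cancel_left (hWle hw).1).mp hx.1, hb⟩
  rw [hdisj, mem_bot] at hbN
  rw [hbN, mul_one]
  exact hw

/-- If `N` is generated by its commutators with `a` then so it is by the iterated ones. -/
theorem closure_iterate_eq (k : ℕ) : ∀ (n : ℕ) (X : Type u) [Group X] [Finite X] (N : Subgroup X)
    (a : X), Nat.card N = n → N.Normal → N ⊔ zpowers a = ⊤ → N ⊓ zpowers a = ⊥ →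
    closure (comm a '' (N : Set X)) = N → closure ((comm a)^[k] '' (N : Set X)) = N := by
  intro n
  induction n using Nat.strong_induction_on with
  | _ n ih =>
    intro X _ _ N a hn hN hsplit hdisj hgen
    have haN : a ∈ normalizer (N : Set X) := le_normalizer_of_normal (H := N) (mem_top a)
    set U := closure ((comm a)^[k] '' (N : Set X)) with hU
    have hUN : U ≤ N := closure_iterate_le haN k
    by_contra hne
    set A := zpowers a with hA
    have hnc : normalClosure (A : Set X) = ⊤ := by
      rw [eq_top_iff, ← hsplit]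
      refine sup_le ?_ (fun x hx => subset_normalClosure hx)
      rw [← hgen, closure_le]
      rintro _ ⟨c, -, rfl⟩
      have h1 : c * a * c⁻¹ ∈ normalClosure (A : Set X) :=
        normalClosure_normal.conj_mem a (subset_normalClosure (mem_zpowers a)) c
      have h2 := mul_mem h1 (inv_mem (subset_normalClosure (mem_zpowers a) :
        a ∈ normalClosure (A : Set X)))
      simpa [comm, mul_assoc] using h2
    have hAtop : A ≠ ⊤ := by
      intro e
      have : N = ⊥ := by rw [← hdisj, e, inf_top_eq]
      exact hne (le_antisymm hUN (this ▸ bot_le))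
    have haU : A ≤ normalizer (U : Set X) := zpowers_le.mpr (mem_normalizer_closure_iterate haN k)
    set V := U ⊔ A with hV
    have hVtop : V ≠ ⊤ := by
      intro e
      refine hne (le_antisymm hUN fun x hx => ?_)
      have hx' : x ∈ U ⊔ A := by rw [← hV, e]; exact mem_top x
      obtain ⟨w, hw, b, hb, rfl⟩ := (Coprime.mem_sup_of_le_normalizer haU).mp hx'
      have hbN : b ∈ N ⊓ A := ⟨(N.mul_mem_cancel_left (hUN hw)).mp hx, hb⟩
      rw [hdisj, mem_bot] at hbN
      rw [hbN, mul_one]
      exact hw
    have hY : top' A ≤ V := by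
      refine sSup_le fun H hH => ?_
      have hHeq : H = (N ⊓ H) ⊔ A := by
        rw [← Coprime.dedekind le_normalizer_of_normal hH.1.1, hsplit, top_inf_eq]
      refine hHeq.le.trans (sup_le_sup_right ?_ A)
      let a' : H := ⟨a, hH.1.1 (mem_zpowers a)⟩
      have hmapA : (zpowers a').map H.subtype = A := by rw [MonoidHom.map_zpowers]; rfl
      have hmapN : (N.subgroupOf H).map H.subtype = N ⊓ H := subgroupOf_map_subtype N H
      have hcomm : ∀ (j : ℕ) (c : H), ((comm a')^[j] c : X) = (comm a)^[j] (c : X) := by
        intro j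
        induction j with
        | zero => exact fun _ => rfl
        | succ j ihj =>
          intro c
          rw [Function.iterate_succ_apply, Function.iterate_succ_apply, ihj]
          rfl
      have himage : ∀ j : ℕ, (closure ((comm a')^[j] '' (N.subgroupOf H : Set H))).map H.subtype =
          closure ((comm a)^[j] '' ((N ⊓ H : Subgroup X) : Set X)) := by
        intro j
        rw [MonoidHom.map_closure, Set.image_image]
        congr 1
        ext x
        constructor
        · rintro ⟨c, hc, rfl⟩; exact ⟨c, ⟨hc, c.2⟩, (hcomm j c).symm⟩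
        · rintro ⟨c, hc, rfl⟩; exact ⟨⟨c, hc.2⟩, hc.1, hcomm j ⟨c, hc.2⟩⟩
      have hlt : Nat.card (N.subgroupOf H) < n := by
        rw [← card_map_of_injective (f := H.subtype) H.subtype_injective, hmapN, ← hn]
        refine card_lt_card_of_lt (lt_of_le_of_ne inf_le_left fun e => hH.2 ?_)
        rw [hHeq, e, hsplit]
      have h1 : closure (comm a' '' (N.subgroupOf H : Set H)) = N.subgroupOf H := by
        refine map_injective H.subtype_injective ?_
        rw [hmapN, ← closure_comm_eq hsplit hdisj hH.1]
        exact himage 1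
      have hs : N.subgroupOf H ⊔ zpowers a' = ⊤ := by
        refine map_injective H.subtype_injective ?_
        rw [Subgroup.map_sup, hmapN, hmapA, ← hHeq, ← MonoidHom.range_eq_map, range_subtype]
      have hd : N.subgroupOf H ⊓ zpowers a' = ⊥ := by
        refine map_injective H.subtype_injective ?_
        rw [map_inf _ _ _ H.subtype_injective, hmapN, hmapA, Subgroup.map_bot, inf_assoc,
          inf_eq_right.mpr hH.1.1, hdisj]
      have h2 := ih _ hlt H (N.subgroupOf H) a' rfl (normal_subgroupOf) hs hd h1
      rw [← hmapN, ← h2, himage k]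
      exact closure_mono (Set.image_mono fun x hx => hx.1)
    have hYtop : top' A ≠ ⊤ := fun e => hVtop (top_le_iff.mp (e ▸ hY))
    obtain ⟨M, hM, hVM⟩ := (eq_top_or_exists_le_coatom V).resolve_left hVtop
    have hAM : A ≤ M := le_sup_right.trans hVM
    have hstep : ∀ c : X, comm a c ∈ M → c ∈ M := by
      intro c hc
      have hmem : c * a * c⁻¹ ∈ M := by
        have : c * a * c⁻¹ = comm a c * a := by simp [comm, mul_assoc]
        rw [this]
        exact mul_mem hc (hAM (mem_zpowers a))
      have hle : A ≤ MulAut.conj c⁻¹ • M :=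
        zpowers_le.mpr (Coprime.mem_conj_smul.mpr (by simpa using hmem))
      have hco : IsCoatom (MulAut.conj c⁻¹ • M) := by
        refine ⟨fun e => hM.1 ?_, fun L hL => ?_⟩
        · rw [← conj_smul_conj_inv c M, e, conj_smul_top]
        · rw [← Core.conj_inv_smul c L] at hL ⊢
          rw [hM.2 _ (lt_of_le_of_ne (conj_le_conj.mp hL.le) fun e => hL.ne (by rw [e])),
            conj_smul_top]
      have e := concl A hAtop hnc hYtop _ M hco hle hM hAM
      rw [← normalizer_coatom hnc hAM hM]
      exact inv_mem_iff.mp (Coprime.mem_normalizer_of_conj_smul_eq e)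
    refine hM.1 (top_le_iff.mp (hsplit ▸ sup_le ?_ hAM))
    intro x hx
    have key : ∀ (j : ℕ) (c : X), (comm a)^[j] c ∈ M → c ∈ M := by
      intro j
      induction j with
      | zero => exact fun c hc => hc
      | succ j ihj =>
        intro c hc
        rw [Function.iterate_succ_apply] at hc
        exact hstep c (ihj _ hc)
    exact key k x (hVM (mem_sup_left (subset_closure ⟨x, hx, rfl⟩)))

end Cfsg.Agent.Zipper
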