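import Cfsg.Agent.Zipper.Family

/-!
If the join of the proper overgroups of `A` generated by their own conjugates of `A` is proper and
the normal closure of `A` is everything, then `A` lies in a unique maximal subgroup.
-/

set_option autoImplicit false

namespace Cfsg.Agent.Zipper

open Subgroup
open scoped Pointwise

variable {G : Type*} [Group G] [Finite G]

/-- The conclusion for the subgroup `A`. -/
def Concl (A : Subgroup G) : Prop :=
  A ≠ ⊤ → normalClosure (A : Set G) = ⊤ → top' A ≠ ⊤ →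
    ∀ L L' : Subgroup G, IsCoatom L → A ≤ L → IsCoatom L' → A ≤ L' → L = L'

/-- The situation in the inductive step. -/
structure Setup (A M0 : Subgroup G) : Prop where
  nc : normalClosure (A : Set G) = ⊤
  ne : A ≠ ⊤
  ytop : top' A ≠ ⊤
  coatom : IsCoatom M0
  ge : normalizer (top' A : Set G) ≤ M0
  ih : ∀ B : Subgroup G, Nat.card A < Nat.card B → Concl B

/-- A maximal overgroup of `A` other than the distinguished one. -/
def Bad (A M0 M : Subgroup G) : Prop := IsCoatom M ∧ A ≤ M ∧ M ≠ M0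

variable {A M0 M : Subgroup G}

theorem Setup.top'_le (hS : Setup A M0) : top' A ≤ M0 := le_normalizer.trans hS.ge

theorem Setup.normalizer_le (hS : Setup A M0) : normalizer (A : Set G) ≤ M0 :=
  (normalizer_le_normalizer_top' A).trans hS.ge

theorem Setup.le (hS : Setup A M0) : A ≤ M0 := le_normalizer.trans hS.normalizer_le

theorem Setup.conj (hS : Setup A M0) (g : G) :
    Setup (MulAut.conj g • A) (MulAut.conj g • M0) := by
  have hne : ∀ {H : Subgroup G}, H ≠ ⊤ → MulAut.conj g • H ≠ ⊤ := fun {H} h e =>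
    h (conj_smul_inj.mp (e.trans (conj_smul_top g).symm))
  refine ⟨?_, hne hS.ne, ?_, ⟨hne hS.coatom.1, fun H hH => ?_⟩, ?_, fun B hB => hS.ih B ?_⟩
  · refine top_le_iff.mp (hS.nc ▸ normalClosure_le_normal fun x hx => ?_)
    have h := normalClosure_normal.conj_mem (g * x * g⁻¹)
      (subset_normalClosure (Coprime.conj_mem_conj_smul (g := g) hx)) g⁻¹
    simpa [mul_assoc] using h
  · rw [top'_conj]; exact hne hS.ytop
  · rw [← conj_smul_conj_inv g H] at hH ⊢
    rw [hS.coatom.2 _ (lt_of_le_of_ne (conj_le_conj.mp hH.le) fun e => hH.ne (by rw [← e])),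
      conj_smul_top]
  · intro x hx
    rw [top'_conj] at hx
    refine Coprime.mem_conj_smul.mpr (hS.ge (Coprime.mem_normalizer_of_conj_smul_eq ?_))
    rw [Coprime.conj_mul_smul, Coprime.conj_mul_smul, Coprime.conj_smul_eq_self_of_mem_normalizer hx,
      Core.conj_inv_smul]
  · rwa [Coprime.card_conj_smul] at hB

omit [Finite G] in
theorem Bad.mk' {B : Subgroup G} (hM : Bad A M0 M) (hB : B ≤ M) {M1 : Subgroup G} (h : M ≠ M1) :
    Bad B M1 M := ⟨hM.1, hB, h⟩

/-- No proper overgroup of `A` outside the distinguished maximal subgroup is generated by conjugates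
of `A`; hence `A` is subnormal in each of them. -/
theorem Setup.subnIn_of_le_bad (hS : Setup A M0) (hM : Bad A M0 M) :
    ∀ H : Subgroup G, A ≤ H → H ≤ M → SubnIn A H := by
  suffices ∀ (n : ℕ) (H : Subgroup G), Nat.card H = n → A ≤ H → H ≤ M → SubnIn A H from
    fun H => this _ H rfl
  intro n
  induction n using Nat.strong_induction_on with
  | _ n ih =>
    intro H hn hAH hHM
    by_cases hG : Gen A H
    · have hHtop : H ≠ ⊤ := fun e => hM.1.1 (top_le_iff.mp (e ▸ hHM))
      have hfam : H ∈ fam A := ⟨hG, hHtop⟩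
      rcases hAH.eq_or_lt with e | hlt
      · exact e ▸ SubnIn.refl A
      exfalso
      refine hM.2.2 (hS.ih H (card_lt_card_of_lt hlt) hHtop
        (normalClosure_eq_top_mono hS.nc hAH) ?_ M M0 hM.1 hHM hS.coatom
        ((show H ≤ top' A from le_sSup hfam).trans hS.top'_le))
      intro e
      refine hS.ytop (top_le_iff.mp (e ▸ sSup_le fun K hK => le_sSup (⟨hG.trans hK.1, hK.2⟩ : K ∈ fam A)))
    · obtain ⟨K, hAK, hKH, hHK, hne⟩ : ∃ K : Subgroup G, A ≤ K ∧ K ≤ H ∧
          H ≤ normalizer (K : Set G) ∧ K ≠ H := by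
        by_contra hcon
        push Not at hcon
        exact hG ⟨hAH, fun K h1 h2 h3 => hcon K h1 h2 h3⟩
      exact (ih _ (hn ▸ card_lt_card_of_lt (lt_of_le_of_ne hKH hne)) K rfl hAK
        (hKH.trans hHM)).step hKH hHK

theorem Setup.subnIn (hS : Setup A M0) {H : Subgroup G} (hAH : A ≤ H) (hH : H ≠ ⊤)
    (hHM : ¬ H ≤ M0) : SubnIn A H := by
  obtain ⟨L, hL, hHL⟩ := (eq_top_or_exists_le_coatom H).resolve_left hH
  exact hS.subnIn_of_le_bad ⟨hL, hAH.trans hHL, fun e => hHM (e ▸ hHL)⟩ H hAH hHL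

theorem Setup.subnIn_bad (hS : Setup A M0) (hM : Bad A M0 M) : SubnIn A M :=
  hS.subnIn_of_le_bad hM M hM.2.1 le_rfl

/-- If two conjugates of `A` generate a subgroup normalising one of them and are contained in a second
maximal subgroup, the distinguished maximal subgroup of one of them contains the other. -/
theorem Setup.le_conj (hS : Setup A M0) (hM : Bad A M0 M) {g : G}
    (hgM : MulAut.conj g • A ≤ M) (hgN : MulAut.conj g • A ≤ normalizer (A : Set G)) :
    A ≤ MulAut.conj g • M0 := by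
  by_cases hg : MulAut.conj g • A = A
  · rw [Coprime.conj_smul_eq_self_of_mem_normalizer (le_normalizer
      (hS.normalizer_le (Coprime.mem_normalizer_of_conj_smul_eq hg)))]
    exact hS.le
  by_contra hA
  set Z := A ⊔ MulAut.conj g • A with hZ
  have hAZ : A < Z := lt_of_le_of_ne le_sup_left fun e => hg (eq_of_conj_le (le_sup_right.trans e.ge))
  have hZM : Z ≤ M := sup_le hM.2.1 hgM
  have hZN : Z ≤ normalizer (A : Set G) := sup_le le_normalizer hgN
  have hY : top' Z ≤ M0 := by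
    refine sSup_le fun H hH => ?_
    by_contra hHM
    have hAH : A ≤ H := le_sup_left.trans hH.1.1
    have hgH : MulAut.conj g • A ≤ H := le_sup_right.trans hH.1.1
    have h1 := (hS.subnIn hAH hH.2 hHM).sup ((hS.conj g).subnIn hgH hH.2 fun h => hA (hAH.trans h))
    exact hHM ((hH.1.eq_of_isSubnormal h1.2).le.trans (hZN.trans hS.normalizer_le))
  exact hM.2.2 (hS.ih Z (card_lt_card_of_lt hAZ) (fun e => hM.1.1 (top_le_iff.mp (e ▸ hZM)))
    (normalClosure_eq_top_mono hS.nc le_sup_left) (fun e => hS.coatom.1 (top_le_iff.mp (e ▸ hY)))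
    M M0 hM.1 hZM hS.coatom (hZN.trans hS.normalizer_le))

/-- A conjugate of `A` by an element of `M0` inside a second maximal subgroup equals `A`. -/
theorem Setup.conj_eq (hS : Setup A M0) (hM : Bad A M0 M) {g : G} (hg : g ∈ M0)
    (hgM : MulAut.conj g • A ≤ M) : MulAut.conj g • A = A := by
  have hS' : ∀ {g : G}, g ∈ M0 → Setup (MulAut.conj g • A) M0 := fun {g} hg => by
    have h := hS.conj g
    rwa [Coprime.conj_smul_eq_self_of_mem_normalizer (le_normalizer hg)] at h
  have pair : ∀ {h : G}, h ∈ M0 → MulAut.conj h • A ≤ M →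
      MulAut.conj h • A ≤ normalizer (A : Set G) → MulAut.conj h • A = A := by
    intro h hh hhM hhN
    by_contra hne
    set Z := A ⊔ MulAut.conj h • A with hZ
    have hAZ : A < Z := lt_of_le_of_ne le_sup_left fun e =>
      hne (eq_of_conj_le (le_sup_right.trans e.ge))
    have hZM : Z ≤ M := sup_le hM.2.1 hhM
    have hZN : Z ≤ normalizer (A : Set G) := sup_le le_normalizer hhN
    have hY : top' Z ≤ M0 := by
      refine sSup_le fun H hH => ?_
      by_contra hHM
      have h1 := (hS.subnIn (le_sup_left.trans hH.1.1) hH.2 hHM).sup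
        ((hS' hh).subnIn (le_sup_right.trans hH.1.1) hH.2 hHM)
      exact hHM ((hH.1.eq_of_isSubnormal h1.2).le.trans (hZN.trans hS.normalizer_le))
    exact hM.2.2 (hS.ih Z (card_lt_card_of_lt hAZ) (fun e => hM.1.1 (top_le_iff.mp (e ▸ hZM)))
      (normalClosure_eq_top_mono hS.nc le_sup_left) (fun e => hS.coatom.1 (top_le_iff.mp (e ▸ hY)))
      M M0 hM.1 hZM hS.coatom (hZN.trans hS.normalizer_le))
  set J : Subgroup G := sSup {B | ∃ h ∈ M0, MulAut.conj h • A = B ∧ B ≤ M} with hJ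
  have hJM : J ≤ M := sSup_le fun B hB => by obtain ⟨h, -, -, h'⟩ := hB; exact h'
  have hJM0 : J ≤ M0 := sSup_le fun B hB => by
    obtain ⟨h, hh, rfl, -⟩ := hB
    exact Coprime.conj_smul_le_self (le_normalizer hh) hS.le
  have hAJ : A ≤ J := le_sSup ⟨1, one_mem _, by simp, hM.2.1⟩
  have hgJ : MulAut.conj g • A ≤ J := le_sSup ⟨g, hg, rfl, hgM⟩
  by_cases hN : J ≤ normalizer (A : Set G)
  · exact pair hg hgM (hgJ.trans hN)
  · obtain ⟨x, hxJ, hxN, hx⟩ := ((hS.subnIn_bad hM).mono hAJ hJM).exists_conj hN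
    exact absurd (Coprime.mem_normalizer_of_conj_smul_eq (pair (hJM0 hxJ)
      (Coprime.conj_smul_le_self (le_normalizer (hJM hxJ)) hM.2.1) hx)) hxN

theorem Setup.inf_le_normalizer (hS : Setup A M0) (hM : Bad A M0 M) :
    M ⊓ M0 ≤ normalizer (A : Set G) := fun _ hx => Coprime.mem_normalizer_of_conj_smul_eq
  (hS.conj_eq hM hx.2 (Coprime.conj_smul_le_self (le_normalizer hx.1) hM.2.1))

/-- The join of the members of `P` that are subnormal in `L`, all inside `R < L`, has a normaliser in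
`L` not inside `R`. -/
theorem exists_mem_normalizer_sSup {L R : Subgroup G} {P : Set (Subgroup G)}
    (hP : ∀ B ∈ P, B ≤ R) (hRL : R ≤ L) (hne : ¬ L ≤ R)
    (hconj : ∀ B ∈ P, ∀ x : G, x ∈ L → MulAut.conj x • B ≤ R → MulAut.conj x • B ∈ P) :
    ¬ L ⊓ normalizer ((sSup {B | B ∈ P ∧ SubnIn B L} : Subgroup G) : Set G) ≤ R := by
  intro hle
  set D : Subgroup G := sSup {B | B ∈ P ∧ SubnIn B L} with hD
  have hDR : D ≤ R := sSup_le fun B hB => hP B hB.1
  have hDL : SubnIn D L := SubnIn.sSup fun B hB => hB.2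
  obtain ⟨e, heL, heN, he⟩ := hDL.exists_conj fun h => hne (fun x hx => hle ⟨hx, h hx⟩)
  have heR : MulAut.conj e • D ≤ R :=
    (le_inf (Coprime.conj_smul_le_self (le_normalizer heL) hDL.1) he).trans hle
  refine heN (Coprime.mem_normalizer_of_conj_smul_eq (eq_of_conj_le ?_))
  rw [conj_le_iff]
  refine sSup_le fun B hB => ?_
  rw [← conj_le_iff]
  refine le_sSup ⟨hconj B hB.1 e heL ((conj_le_conj.mpr (le_sSup hB)).trans heR), ?_⟩
  have := hB.2.conj e
  rwa [Coprime.conj_smul_eq_self_of_mem_normalizer (le_normalizer heL)] at this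

theorem Setup.unique (hS : Setup A M0) : ∀ L : Subgroup G, IsCoatom L → A ≤ L → L = M0 := by
  intro L hL hAL
  by_contra hne
  obtain ⟨M, hM, hmax⟩ := Set.exists_max_image {M : Subgroup G | Bad A M0 M}
    (fun M => Nat.card (M ⊓ M0 : Subgroup G)) (Set.toFinite _) ⟨L, hL, hAL, hne⟩
  set R := M ⊓ M0 with hR
  have hAR : A ≤ R := le_inf hM.2.1 hS.le
  have hRN : R ≤ normalizer (A : Set G) := hS.inf_le_normalizer hM
  have hMR : ¬ M ≤ R := fun h => hM.2.2 (hM.1.le_iff.mp (h.trans inf_le_right) |>.resolve_left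
    hS.coatom.1).symm
  have hM0R : ¬ M0 ≤ R := fun h => hM.2.2 ((hS.coatom.le_iff.mp (h.trans inf_le_left)).resolve_left
    hM.1.1)
  set P : Set (Subgroup G) := {B | ∃ g : G, MulAut.conj g • A = B ∧ B ≤ R} with hP
  have hAP : A ∈ P := ⟨1, by simp, hAR⟩
  have hPR : ∀ B ∈ P, B ≤ R := fun B hB => by obtain ⟨g, -, h⟩ := hB; exact h
  have hPconj : ∀ B ∈ P, ∀ x : G, MulAut.conj x • B ≤ R → MulAut.conj x • B ∈ P := by
    rintro B ⟨g, rfl, -⟩ x hx
    exact ⟨x * g, Coprime.conj_mul_smul x g A, hx⟩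
  have hP0 : ∀ g : G, MulAut.conj g • A ∈ P → MulAut.conj g • A ≠ A →
      A ≤ MulAut.conj g • M0 ∧ MulAut.conj g • M0 ≠ M0 := by
    intro g hB hBA
    have hBR : MulAut.conj g • A ≤ R := hPR _ hB
    refine ⟨hS.le_conj hM (hBR.trans inf_le_left) (hBR.trans hRN), fun e => hBA ?_⟩
    refine hS.conj_eq hM (?_ : g ∈ M0) (hBR.trans inf_le_left)
    rw [← normalizer_coatom hS.nc hS.le hS.coatom]
    exact Coprime.mem_normalizer_of_conj_smul_eq e
  obtain ⟨X, gX, hX, hXR, hXA⟩ : ∃ (X : Subgroup G) (g : G),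
      MulAut.conj g • A = X ∧ X ≤ R ∧ X ≠ A := by
    have hMN : ¬ M ≤ normalizer (A : Set G) := fun h =>
      hMR (le_inf le_rfl (h.trans hS.normalizer_le))
    obtain ⟨x, hxM, hxN, hx⟩ := (hS.subnIn_bad hM).exists_conj hMN
    exact ⟨_, x, rfl, le_inf (Coprime.conj_smul_le_self (le_normalizer hxM) hM.2.1)
      (hx.trans hS.normalizer_le), fun e => hxN (Coprime.mem_normalizer_of_conj_smul_eq e)⟩
  have hsubn0 : ∀ B ∈ P, B ≠ A → SubnIn B M0 := by
    rintro B ⟨g, rfl, hBR⟩ hBA
    exact (hS.conj g).subnIn_bad ⟨hS.coatom, hBR.trans inf_le_right, (hP0 g ⟨g, rfl, hBR⟩ hBA).2.symm⟩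
  -- the `M`-side
  set D : Subgroup G := sSup {B | B ∈ P ∧ SubnIn B M} with hD
  have hK : ¬ M ⊓ normalizer (D : Set G) ≤ R :=
    exists_mem_normalizer_sSup hPR inf_le_left hMR fun B hB x _ hx => hPconj B hB x hx
  have hKP : ∀ k ∈ M ⊓ normalizer (D : Set G), ∀ B ∈ P, MulAut.conj k • B ≤ R := by
    rintro k ⟨hkM, hkD⟩ B hB
    have hDR : D ≤ R := sSup_le fun B hB => hPR B hB.1
    have hmem : ∀ {C : Subgroup G}, C ∈ P → SubnIn C M → ∀ {n : G},
        n ∈ normalizer (D : Set G) → MulAut.conj n • C ≤ R := fun {C} hC hC' {n} hn =>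
      (Coprime.conj_smul_le_self hn (le_sSup (⟨hC, hC'⟩ : C ∈ {B | B ∈ P ∧ SubnIn B M}))).trans hDR
    by_cases hBM : SubnIn B M
    · exact hmem hB hBM hkD
    obtain ⟨g, rfl, hBR⟩ := hB
    have hgM : MulAut.conj g • M0 = M := by
      by_contra e
      exact hBM ((hS.conj g).subnIn_bad ⟨hM.1, hBR.trans inf_le_left, Ne.symm e⟩)
    have hS1 : Setup (MulAut.conj g • A) M := hgM ▸ hS.conj g
    have hbad : Bad (MulAut.conj g • A) M M0 := ⟨hS.coatom, hBR.trans inf_le_right, hM.2.2.symm⟩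
    have hN1 : R ≤ normalizer ((MulAut.conj g • A : Subgroup G) : Set G) := by
      rw [hR, inf_comm]; exact hS1.inf_le_normalizer hbad
    have hXk : MulAut.conj k⁻¹ • A ≤ R :=
      hmem hAP (hS.subnIn_bad hM) (inv_mem hkD)
    have e1 : MulAut.conj (k⁻¹ * g⁻¹) • MulAut.conj g • A = MulAut.conj k⁻¹ • A := by
      rw [← Coprime.conj_mul_smul, inv_mul_cancel_right]
    have hle := hS1.le_conj hbad (g := k⁻¹ * g⁻¹) (by rw [e1]; exact hXk.trans inf_le_right)
      (by rw [e1]; exact hXk.trans hN1)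
    have e2 : MulAut.conj (k⁻¹ * g⁻¹) • M = MulAut.conj k⁻¹ • M0 := by
      conv_lhs => rw [← hgM]
      rw [← Coprime.conj_mul_smul, inv_mul_cancel_right]
    rw [e2, ← conj_le_iff] at hle
    rw [hS1.conj_eq hbad hkM hle]
    exact hBR
  -- the `M0`-side
  set D0 : Subgroup G := sSup {B | B ∈ P ∧ SubnIn B M0} with hD0
  have hK0 : ¬ M0 ⊓ normalizer (D0 : Set G) ≤ R :=
    exists_mem_normalizer_sSup hPR inf_le_right hM0R fun B hB x _ hx => hPconj B hB x hx
  have hK0R : R ≤ M0 ⊓ normalizer (D0 : Set G) := by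
    refine le_inf inf_le_right fun r hr => Coprime.mem_normalizer_of_conj_smul_eq (eq_of_conj_le ?_)
    rw [conj_le_iff]
    refine sSup_le fun B hB => ?_
    rw [← conj_le_iff]
    refine le_sSup ⟨hPconj B hB.1 r (Coprime.conj_smul_le_self (le_normalizer hr) (hPR B hB.1)), ?_⟩
    have := hB.2.conj r
    rwa [Coprime.conj_smul_eq_self_of_mem_normalizer (le_normalizer hr.2)] at this
  have hK0P : ∀ k ∈ M0 ⊓ normalizer (D0 : Set G), ∀ B ∈ P, MulAut.conj k • B ≤ R := by
    rintro k ⟨hk0, hkD⟩ B hB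
    have hD0R : D0 ≤ R := sSup_le fun B hB => hPR B hB.1
    have hmem : ∀ {C : Subgroup G}, C ∈ P → C ≠ A → ∀ {n : G},
        n ∈ normalizer (D0 : Set G) → MulAut.conj n • C ≤ R := fun {C} hC hC' {n} hn =>
      (Coprime.conj_smul_le_self hn
        (le_sSup (⟨hC, hsubn0 C hC hC'⟩ : C ∈ {B | B ∈ P ∧ SubnIn B M0}))).trans hD0R
    by_cases hBA : B = A
    · subst hBA
      suffices MulAut.conj k • B = B by rw [this]; exact hAR
      have hX' : MulAut.conj (k⁻¹ * gX) • B ≤ R := by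
        rw [Coprime.conj_mul_smul, hX]
        exact hmem ⟨gX, hX, hXR⟩ hXA (inv_mem hkD)
      have hle := hS.le_conj hM (hX'.trans inf_le_left) (hX'.trans hRN)
      rw [Coprime.conj_mul_smul, ← conj_le_iff] at hle
      have hp := hP0 gX (by rw [hX]; exact ⟨gX, hX, hXR⟩) (by rw [hX]; exact hXA)
      exact hS.conj_eq ⟨(hS.conj gX).coatom, hp.1, hp.2⟩ hk0 hle
    · exact hmem hB hBA hkD
  -- the join of `P`
  set S : Subgroup G := sSup P with hSdef
  have hPN : ∀ k : G, (∀ B ∈ P, MulAut.conj k • B ≤ R) → k ∈ normalizer (S : Set G) := by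
    intro k hk
    refine Coprime.mem_normalizer_of_conj_smul_eq (eq_of_conj_le ?_)
    rw [conj_le_iff]
    refine sSup_le fun B hB => ?_
    rw [← conj_le_iff]
    exact le_sSup (hPconj B hB k (hk B hB))
  obtain ⟨L3, hL3, hSL3⟩ := (eq_top_or_exists_le_coatom (normalizer (S : Set G))).resolve_left
    (normalizer_ne_top hS.nc (le_sSup hAP) fun e => hM.1.1
      (top_le_iff.mp (e ▸ (sSup_le hPR).trans inf_le_left)))
  by_cases h3 : L3 = M0
  · subst h3
    exact hK (le_inf inf_le_left fun k hk => hSL3 (hPN k (hKP k hk)))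
  have hlt : R < M0 ⊓ normalizer (D0 : Set G) := lt_of_le_of_ne hK0R fun e => hK0 e.ge
  have hb3 : Bad A M0 L3 := ⟨hL3, ((le_sSup hAP).trans le_normalizer).trans hSL3, h3⟩
  have h1 := hmax L3 hb3
  have h2 : M0 ⊓ normalizer (D0 : Set G) ≤ L3 ⊓ M0 :=
    le_inf (fun k hk => hSL3 (hPN k (hK0P k hk))) inf_le_left
  have := (card_lt_card_of_lt hlt).trans_le (card_le_of_le h2)
  omega

theorem concl (A : Subgroup G) : Concl A := by
  suffices ∀ (n : ℕ) (A : Subgroup G), Nat.card G - Nat.card A = n → Concl A from this _ A rfl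
  clear A
  intro n
  induction n using Nat.strong_induction_on with
  | _ n ih =>
    intro A hn hne hnc hY L L' hL hAL hL' hAL'
    obtain ⟨M0, hM0, hge⟩ := (eq_top_or_exists_le_coatom (normalizer (top' A : Set G))).resolve_left
      (normalizer_ne_top hnc (gen_top' hne).1 hY)
    have hS : Setup A M0 := by
      refine ⟨hnc, hne, hY, hM0, hge, fun B hB => ih (Nat.card G - Nat.card B) ?_ B rfl⟩
      have := card_le_card_group B
      omega
    exact (hS.unique L hL hAL).trans (hS.unique L' hL' hAL').symm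

/-- Either the join of `fam A` is everything, or `A` is in exactly one maximal subgroup. -/
theorem existsUnique_coatom {A : Subgroup G} (hA : normalClosure (A : Set G) = ⊤) (hne : A ≠ ⊤)
    (hY : top' A ≠ ⊤) : ∃! M : Subgroup G, IsCoatom M ∧ A ≤ M := by
  obtain ⟨M, hM, hAM⟩ := (eq_top_or_exists_le_coatom A).resolve_left hne
  exact ⟨M, ⟨hM, hAM⟩, fun L hL => concl A hne hA hY L M hL.1 hL.2 hM hAM⟩

end Cfsg.Agent.Zipper
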