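import Cfsg.Agent.Core.Zipper

/-!
Overgroups of `A` generated by their own conjugates of `A`, and subnormality relative to an overgroup.
-/

set_option autoImplicit false

namespace Cfsg.Agent.Zipper

open Subgroup
open scoped Pointwise

variable {G : Type*} [Group G]

/-- `H` contains `A` and is the normal closure of `A` in `H`. -/
def Gen (A H : Subgroup G) : Prop :=
  A ≤ H ∧ ∀ K : Subgroup G, A ≤ K → K ≤ H → H ≤ normalizer (K : Set G) → K = H

theorem gen_iff {A H : Subgroup G} :
    Gen A H ↔ A ≤ H ∧ normalClosure ((A.subgroupOf H : Subgroup H) : Set H) = ⊤ := by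
  refine and_congr_right fun hAH => ⟨fun h => ?_, fun h K hAK hKH hHK => le_antisymm hKH ?_⟩
  · set N := normalClosure ((A.subgroupOf H : Subgroup H) : Set H)
    have hle : N.map H.subtype ≤ H := map_subtype_le N
    have hA : A ≤ N.map H.subtype := fun x hx => ⟨⟨x, hAH hx⟩, subset_normalClosure hx, rfl⟩
    have hn : H ≤ normalizer ((N.map H.subtype : Subgroup G) : Set G) := by
      refine (normal_subgroupOf_iff_le_normalizer hle).mp ?_
      have hN : (N.map H.subtype).subgroupOf H = N := comap_map_eq_self_of_injective H.subtype_injective N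
      rw [hN]
      exact normalClosure_normal
    refine map_injective H.subtype_injective ?_
    rw [h _ hA hle hn, ← MonoidHom.range_eq_map, range_subtype]
  · haveI := (normal_subgroupOf_iff_le_normalizer hKH).mpr hHK
    have : normalClosure ((A.subgroupOf H : Subgroup H) : Set H) ≤ K.subgroupOf H :=
      normalClosure_le_normal fun x hx => hAK hx
    rw [h] at this
    exact fun x hx => this (mem_top (⟨x, hx⟩ : H))

theorem Gen.refl (A : Subgroup G) : Gen A A := ⟨le_rfl, fun _ h1 h2 _ => le_antisymm h2 h1⟩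

theorem Gen.trans {A K H : Subgroup G} (h1 : Gen A K) (h2 : Gen K H) : Gen A H := by
  refine ⟨h1.1.trans h2.1, fun L hAL hLH hHL => h2.2 L ?_ hLH hHL⟩
  have := h1.2 (L ⊓ K) (le_inf hAL h1.1) inf_le_right
    (Coprime.le_normalizer_inf (h2.1.trans hHL) le_normalizer)
  exact inf_eq_right.mp this

/-- The proper overgroups of `A` generated by their own conjugates of `A`. -/
def fam (A : Subgroup G) : Set (Subgroup G) := {H | Gen A H ∧ H ≠ ⊤}

/-- The join of `fam A`. -/
def top' (A : Subgroup G) : Subgroup G := sSup (fam A)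

theorem gen_top' {A : Subgroup G} (hA : A ≠ ⊤) : Gen A (top' A) := by
  refine ⟨le_sSup (a := A) ⟨Gen.refl A, hA⟩, fun K hAK hKY hYK => le_antisymm hKY (sSup_le fun H hH => ?_)⟩
  have hHY : H ≤ top' A := le_sSup hH
  have := hH.1.2 (K ⊓ H) (le_inf hAK hH.1.1) inf_le_right
    (Coprime.le_normalizer_inf (hHY.trans hYK) le_normalizer)
  exact inf_eq_right.mp this

/-- A subgroup generated by its own conjugates of a subnormal subgroup `Z` equals `Z`. -/
theorem Gen.eq_of_isSubnormal {Z H : Subgroup G} (h : Gen Z H)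
    (hs : (Z.subgroupOf H).IsSubnormal) : H = Z := by
  rcases hs.lt_normal with h' | ⟨K, hK, hZK, hlt⟩
  · exact le_antisymm (subgroupOf_eq_top.mp h') h.1
  · refine absurd ?_ hlt.ne
    have := (gen_iff.mp h).2
    exact top_le_iff.mp (this ▸ normalClosure_le_normal hZK)

theorem normalClosure_eq_top_mono {A B : Subgroup G} (hA : normalClosure (A : Set G) = ⊤)
    (h : A ≤ B) : normalClosure (B : Set G) = ⊤ :=
  top_le_iff.mp (hA ▸ normalClosure_mono h)

theorem normalizer_ne_top {A M : Subgroup G} (hA : normalClosure (A : Set G) = ⊤) (hAM : A ≤ M)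
    (hM : M ≠ ⊤) : normalizer (M : Set G) ≠ ⊤ := fun h => hM (by
  haveI := normalizer_eq_top_iff.mp h
  exact top_le_iff.mp (hA ▸ normalClosure_le_normal hAM))

theorem normalizer_coatom {A M : Subgroup G} (hA : normalClosure (A : Set G) = ⊤) (hAM : A ≤ M)
    (hM : IsCoatom M) : normalizer (M : Set G) = M :=
  ((hM.le_iff.mp le_normalizer).resolve_left (normalizer_ne_top hA hAM hM.1))

/-! ### Conjugation -/

theorem conj_le_conj {g : G} {H K : Subgroup G} :
    MulAut.conj g • H ≤ MulAut.conj g • K ↔ H ≤ K := pointwise_smul_le_pointwise_smul_iff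

theorem conj_smul_inj {g : G} {H K : Subgroup G} :
    MulAut.conj g • H = MulAut.conj g • K ↔ H = K := (MulAction.injective _).eq_iff

theorem conj_smul_conj_inv (g : G) (H : Subgroup G) : MulAut.conj g • MulAut.conj g⁻¹ • H = H := by
  rw [← Coprime.conj_mul_smul, mul_inv_cancel, map_one, one_smul]

theorem conj_le_iff {g : G} {H K : Subgroup G} :
    MulAut.conj g • H ≤ K ↔ H ≤ MulAut.conj g⁻¹ • K := by
  rw [← conj_le_conj (g := g) (H := H), conj_smul_conj_inv]

theorem conj_le_normalizer {g : G} {K H : Subgroup G} :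
    MulAut.conj g • K ≤ normalizer ((MulAut.conj g • H : Subgroup G) : Set G) ↔
      K ≤ normalizer (H : Set G) := by
  suffices ∀ (g : G) (K H : Subgroup G), K ≤ normalizer (H : Set G) →
      MulAut.conj g • K ≤ normalizer ((MulAut.conj g • H : Subgroup G) : Set G) by
    refine ⟨fun h => ?_, this g K H⟩
    have := this g⁻¹ _ _ h
    rwa [Core.conj_inv_smul, Core.conj_inv_smul] at this
  intro g K H h
  rw [Coprime.conj_smul_eq_map, Coprime.conj_smul_eq_map]
  exact Layer.le_normalizer_map_conj g h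

theorem Gen.conj {A H : Subgroup G} (h : Gen A H) (g : G) :
    Gen (MulAut.conj g • A) (MulAut.conj g • H) := by
  refine ⟨conj_le_conj.mpr h.1, fun K hAK hKH hHK => ?_⟩
  rw [← conj_smul_conj_inv g K] at hAK hKH hHK ⊢
  rw [h.2 _ (conj_le_conj.mp hAK) (conj_le_conj.mp hKH) (conj_le_normalizer.mp hHK)]

theorem conj_smul_top (g : G) : MulAut.conj g • (⊤ : Subgroup G) = ⊤ := by
  ext x; simp [Coprime.mem_conj_smul]

theorem top'_conj (g : G) (A : Subgroup G) :
    top' (MulAut.conj g • A) = MulAut.conj g • top' A := by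
  suffices ∀ (g : G) (A : Subgroup G), top' (MulAut.conj g • A) ≤ MulAut.conj g • top' A by
    refine le_antisymm (this g A) ?_
    have h := this g⁻¹ (MulAut.conj g • A)
    rw [Core.conj_inv_smul] at h
    exact (conj_le_conj.mpr h).trans_eq (conj_smul_conj_inv g _)
  intro g A
  refine sSup_le fun H hH => ?_
  rw [← conj_smul_conj_inv g H, conj_le_conj]
  refine le_sSup ⟨?_, fun e => hH.2 ?_⟩
  · have := hH.1.conj g⁻¹
    rwa [Core.conj_inv_smul] at this
  · rw [← conj_smul_conj_inv g H, e, conj_smul_top]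

theorem normalizer_le_normalizer_top' (A : Subgroup G) :
    normalizer (A : Set G) ≤ normalizer (top' A : Set G) := by
  intro g hg
  refine Coprime.mem_normalizer_of_conj_smul_eq ?_
  rw [← top'_conj, Coprime.conj_smul_eq_self_of_mem_normalizer hg]

/-! ### Subnormality inside a subgroup -/

/-- `A` is a subnormal subgroup of `H`. -/
def SubnIn (A H : Subgroup G) : Prop := A ≤ H ∧ (A.subgroupOf H).IsSubnormal

theorem SubnIn.refl (A : Subgroup G) : SubnIn A A := ⟨le_rfl, by simp⟩

theorem SubnIn.mono {A H K : Subgroup G} (h : SubnIn A H) (hAK : A ≤ K) (hKH : K ≤ H) :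
    SubnIn A K := ⟨hAK, Eq.mp (congrArg Subgroup.IsSubnormal (by ext x; rfl)) (h.2.comap (inclusion hKH))⟩

theorem SubnIn.step {A K H : Subgroup G} (h : SubnIn A K) (hKH : K ≤ H)
    (hn : H ≤ normalizer (K : Set G)) : SubnIn A H := by
  refine ⟨h.1.trans hKH, Subgroup.IsSubnormal.trans (fun x hx => h.1 hx) ?_
    ((normal_subgroupOf_iff_le_normalizer hKH).mpr hn).isSubnormal⟩
  exact h.2.comap (subgroupOfEquivOfLe hKH).toMonoidHom

theorem SubnIn.conj {A H : Subgroup G} (h : SubnIn A H) (g : G) :
    SubnIn (MulAut.conj g • A) (MulAut.conj g • H) := by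
  refine ⟨conj_le_conj.mpr h.1, ?_⟩
  let f : ↥(MulAut.conj g • H) →* H :=
    ((MulAut.conj g⁻¹).toMonoidHom.comp (MulAut.conj g • H).subtype).codRestrict _
      (fun y => by simpa using Coprime.mem_conj_smul.mp y.2)
  refine Eq.mp (congrArg Subgroup.IsSubnormal ?_) (h.2.comap f)
  ext y
  simp [f, mem_subgroupOf, Coprime.mem_conj_smul]

theorem SubnIn.sup [Finite G] {A B H : Subgroup G} (hA : SubnIn A H) (hB : SubnIn B H) :
    SubnIn (A ⊔ B) H := by
  refine ⟨sup_le hA.1 hB.1, ?_⟩
  rw [subgroupOf_sup hA.1 hB.1]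
  exact Layer.isSubnormal_sup hA.2 hB.2

theorem SubnIn.sSup [Finite G] {s : Set (Subgroup G)} {H : Subgroup G}
    (h : ∀ B ∈ s, SubnIn B H) : SubnIn (sSup s) H := by
  induction s, Set.toFinite s using Set.Finite.induction_on with
  | empty => rw [sSup_empty]; exact ⟨bot_le, by simp⟩
  | insert _ _ ih =>
    rw [sSup_insert]
    exact (h _ (Set.mem_insert _ _)).sup (ih fun B hB => h B (Set.mem_insert_of_mem _ hB))

theorem card_lt_card_of_lt [Finite G] {A B : Subgroup G} (h : A < B) : Nat.card A < Nat.card B :=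
  (card_le_of_le h.le).lt_of_ne fun e => h.ne (eq_of_le_of_card_ge h.le e.ge)

theorem eq_of_conj_le [Finite G] {g : G} {A : Subgroup G} (h : MulAut.conj g • A ≤ A) :
    MulAut.conj g • A = A :=
  eq_of_le_of_card_ge h (Coprime.card_conj_smul g A).ge

/-- A subnormal subgroup is normal in, or has a conjugate inside its normaliser. -/
theorem SubnIn.exists_conj [Finite G] {A H : Subgroup G} (h : SubnIn A H)
    (hH : ¬ H ≤ normalizer (A : Set G)) :
    ∃ x ∈ H, x ∉ normalizer (A : Set G) ∧ MulAut.conj x • A ≤ normalizer (A : Set G) :=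
  Core.exists_conj_le_normalizer_within h.1 h.2 hH

end Cfsg.Agent.Zipper
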